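import Mathlib
import Groth.Prelude

/-!
# Multiplication by Teichmüller representatives
-/

set_option autoImplicit false

open MvPolynomial

noncomputable section

namespace Groth.Agent.WittFilLib

variable (p : ℕ) [hp : Fact p.Prime]

universe u

/-- The coordinatewise product. -/
def scale {R : Type u} [CommRing R] (v : R) (y : WittVector p R) : WittVector p R :=
  WittVector.mk p fun n => v ^ p ^ n * y.coeff n

theorem map_scale {R S : Type u} [CommRing R] [CommRing S] (f : R →+* S) (v : R) (y : WittVector p R) :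
    WittVector.map f (scale p v y) = scale p (f v) (WittVector.map f y) := by
  ext n
  simp [scale, WittVector.map_coeff]

theorem ghost_scale {R : Type u} [CommRing R] (v : R) (y : WittVector p R) (n : ℕ) :
    WittVector.ghostComponent n (scale p v y) = v ^ p ^ n * WittVector.ghostComponent n y := by
  rw [WittVector.ghostComponent_apply, WittVector.ghostComponent_apply, aeval_wittPolynomial,
    aeval_wittPolynomial, Finset.mul_sum]
  refine Finset.sum_congr rfl fun i hi => ?_
  have : i ≤ n := Nat.lt_succ_iff.1 (Finset.mem_range.1 hi)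
  simp only [scale, WittVector.coeff_mk]
  rw [mul_pow, ← pow_mul, ← pow_add, Nat.add_sub_cancel' this]
  ring

theorem teichmuller_mul_rat {ι : Type u} (v : MvPolynomial ι ℚ) (y : WittVector p (MvPolynomial ι ℚ)) :
    WittVector.teichmuller p v * y = scale p v y := by
  apply (WittVector.ghostMap.bijective_of_invertible p (MvPolynomial ι ℚ)).1
  ext1 n
  rw [map_mul, Pi.mul_apply, WittVector.ghostMap_apply, WittVector.ghostMap_apply,
    WittVector.ghostMap_apply, ghost_scale, WittVector.ghostComponent_teichmuller]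

theorem teichmuller_mul_int {ι : Type u} (v : MvPolynomial ι ℤ) (y : WittVector p (MvPolynomial ι ℤ)) :
    WittVector.teichmuller p v * y = scale p v y := by
  refine WittVector.map_injective (MvPolynomial.map (Int.castRingHom ℚ))
    (MvPolynomial.map_injective _ Int.cast_injective) ?_
  rw [map_mul, WittVector.map_teichmuller, teichmuller_mul_rat, map_scale]

theorem teichmuller_mul {R : Type u} [CommRing R] (v : R) (y : WittVector p R) :
    WittVector.teichmuller p v * y = scale p v y := by
  let f : MvPolynomial (ULift.{u} (Option ℕ)) ℤ →+* R :=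
    MvPolynomial.eval₂Hom (Int.castRingHom R) (fun i => (i.down).elim v y.coeff)
  let v₀ : MvPolynomial (ULift.{u} (Option ℕ)) ℤ := MvPolynomial.X ⟨none⟩
  let y₀ : WittVector p (MvPolynomial (ULift.{u} (Option ℕ)) ℤ) :=
    WittVector.mk p fun n => MvPolynomial.X ⟨some n⟩
  have hv : f v₀ = v := by simp [f, v₀]
  have hy : WittVector.map f y₀ = y := by
    ext n
    simp [f, y₀, WittVector.map_coeff]
  rw [← hv, ← hy, ← WittVector.map_teichmuller, ← map_mul, teichmuller_mul_int, map_scale]

theorem coeff_truncate_teichmuller_mul {R : Type u} [CommRing R] (v : R) (m : ℕ)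
    (x : TruncatedWittVector p m R) (j : Fin m) :
    TruncatedWittVector.coeff j (WittVector.truncate m (WittVector.teichmuller p v) * x) =
      v ^ p ^ (j : ℕ) * TruncatedWittVector.coeff j x := by
  obtain ⟨y, rfl⟩ := WittVector.truncate_surjective p m R x
  rw [← map_mul, teichmuller_mul, WittVector.coeff_truncate, WittVector.coeff_truncate]
  rfl

theorem fil_image {A B : Type u} [CommRing A] [CommRing B] [Algebra A B] (m : ℕ) (u : Bˣ) (n l : ℤ) :
    WittFil.fil p m (A := A) ((u ^ (n - (p : ℤ) ^ (m - 1) * l) : Bˣ) : B) =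
      (fun a => WittVector.truncate m (WittVector.teichmuller p ((u ^ l : Bˣ) : B)) * a) ''
        WittFil.fil p m (A := A) ((u ^ n : Bˣ) : B) := by
  have key : ∀ (k e : ℤ) (x : TruncatedWittVector p m B) (j : Fin m),
      (TruncatedWittVector.coeff j (WittVector.truncate m (WittVector.teichmuller p ((u ^ k : Bˣ) : B)) * x)) ^
        p ^ (m - 1 - (j : ℕ)) * ((u ^ e : Bˣ) : B) =
      TruncatedWittVector.coeff j x ^ p ^ (m - 1 - (j : ℕ)) * ((u ^ (e + (p : ℤ) ^ (m - 1) * k) : Bˣ) : B) := by
    intro k e x j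
    have hj : (j : ℕ) + (m - 1 - j) = m - 1 := by have := j.2; omega
    rw [coeff_truncate_teichmuller_mul, mul_pow, ← pow_mul, ← pow_add, hj,
      zpow_add, Units.val_mul, mul_comm ((p : ℤ) ^ (m - 1)) k, zpow_mul,
      show ((p : ℤ) ^ (m - 1)) = ((p ^ (m - 1) : ℕ) : ℤ) by push_cast; rfl, zpow_natCast,
      Units.val_pow_eq_pow_val]
    ring
  ext x
  constructor
  · intro hx
    refine ⟨WittVector.truncate m (WittVector.teichmuller p ((u ^ (-l) : Bˣ) : B)) * x, fun j => ?_, ?_⟩
    · rw [key, show n + (p : ℤ) ^ (m - 1) * -l = n - (p : ℤ) ^ (m - 1) * l by ring]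
      exact hx j
    · show _ * (_ * x) = x
      rw [← mul_assoc, ← map_mul, ← map_mul, ← Units.val_mul, ← zpow_add, add_neg_cancel,
        zpow_zero, Units.val_one, map_one, map_one, one_mul]
  · rintro ⟨y, hy, rfl⟩ j
    rw [key, show n - (p : ℤ) ^ (m - 1) * l + (p : ℤ) ^ (m - 1) * l = n by ring]
    exact hy j

theorem verschiebung_iterate_mul {R : Type u} [CommRing R] [CharP R p] (x y : WittVector p R) : ∀ s : ℕ,
    WittVector.verschiebung^[s] (x * WittVector.frobenius^[s] y) = WittVector.verschiebung^[s] x * y := by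
  intro s
  simpa using (WittVector.iterate_verschiebung_mul x y s 0).symm

theorem frobenius_iterate_teichmuller {R : Type u} [CommRing R] [CharP R p] (v : R) : ∀ s : ℕ,
    WittVector.frobenius^[s] (WittVector.teichmuller p v) = WittVector.teichmuller p (v ^ p ^ s) := by
  intro s
  induction s with
  | zero => simp
  | succ s ih =>
    rw [Function.iterate_succ_apply', ih]
    ext n
    rw [WittVector.coeff_frobenius_charP]
    cases n with
    | zero =>
      rw [WittVector.teichmuller_coeff_zero, WittVector.teichmuller_coeff_zero, ← pow_mul, ← pow_succ]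
    | succ n =>
      rw [WittVector.teichmuller_coeff_pos p _ _ (Nat.succ_pos _),
        WittVector.teichmuller_coeff_pos p _ _ (Nat.succ_pos _), zero_pow hp.1.ne_zero]

theorem teichmuller_mul_vShiftTeich {S B : Type u} [CommRing S] [CharP S p] [CommRing B] [Algebra S B]
    (m s : ℕ) (u : Bˣ) (i l : ℤ) (c : WittVector p S) :
    WittVector.truncate m (WittVector.teichmuller p ((u ^ l : Bˣ) : B)) *
        WittFil.vShiftTeich p m s ((u ^ i : Bˣ) : B) c =
      WittFil.vShiftTeich p m s ((u ^ (i + (p : ℤ) ^ s * l) : Bˣ) : B) c := by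
  rcases subsingleton_or_nontrivial B with hB | hB
  · exact TruncatedWittVector.ext fun j => Subsingleton.elim _ _
  haveI : CharP B p := (CharP.charP_iff_prime_eq_zero hp.1).2 (by
    rw [← map_natCast (algebraMap S B), CharP.cast_eq_zero, map_zero])
  have e : ((u ^ (i + (p : ℤ) ^ s * l) : Bˣ) : B) = ((u ^ i : Bˣ) : B) * ((u ^ l : Bˣ) : B) ^ p ^ s := by
    rw [zpow_add, Units.val_mul, mul_comm ((p : ℤ) ^ s) l, zpow_mul,
      show ((p : ℤ) ^ s) = ((p ^ s : ℕ) : ℤ) by push_cast; rfl, zpow_natCast, Units.val_pow_eq_pow_val]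
  rw [WittFil.vShiftTeich, WittFil.vShiftTeich, ← map_mul, e, map_mul (WittVector.teichmuller p),
    mul_comm (WittVector.teichmuller p ((u ^ l : Bˣ) : B)), ← verschiebung_iterate_mul,
    frobenius_iterate_teichmuller, mul_assoc]

theorem frobenius_verschiebung_fil {A B : Type u} [CommRing A] [CommRing B] [Algebra A B] [CharP B p]
    (c : B) (m : ℕ) :
    (∀ x : WittVector p B,
        WittVector.truncate (m + 1) x ∈ WittFil.fil p (m + 1) (A := A) c →
          WittVector.truncate m (WittVector.frobenius x) ∈ WittFil.fil p m (A := A) c) ∧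
      (∀ x : WittVector p B,
        WittVector.truncate m x ∈ WittFil.fil p m (A := A) c →
          WittVector.truncate (m + 1) (WittVector.verschiebung x) ∈
            WittFil.fil p (m + 1) (A := A) c) := by
  refine ⟨fun x hx j => ?_, fun x hx j => ?_⟩
  · have h := hx ⟨j, Nat.lt_succ_of_lt j.2⟩
    simp only [WittVector.coeff_truncate, add_tsub_cancel_right] at h ⊢
    rw [WittVector.coeff_frobenius_charP, ← pow_mul, ← pow_succ',
      show m - 1 - (j : ℕ) + 1 = m - (j : ℕ) by have := j.2; omega]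
    exact h
  · obtain ⟨j, hj⟩ := j
    cases j with
    | zero =>
      rw [WittVector.coeff_truncate, WittVector.verschiebung_coeff_zero,
        zero_pow (pow_ne_zero _ hp.1.ne_zero), zero_mul]
      exact zero_mem _
    | succ i =>
      have h := hx ⟨i, Nat.lt_of_succ_lt_succ hj⟩
      simp only [WittVector.coeff_truncate, add_tsub_cancel_right] at h ⊢
      rw [WittVector.verschiebung_coeff_succ, show m - (i + 1) = m - 1 - i by omega]
      exact h

theorem mem_range_of_pow_mem {A B : Type u} [CommRing A] [IsDomain A] [IsIntegrallyClosed A]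
    [CommRing B] [Algebra A B] {M : Submonoid A} [IsLocalization M B] (hM : M ≤ nonZeroDivisors A)
    (b : B) {N : ℕ} (hN : N ≠ 0) (h : b ^ N ∈ (algebraMap A B).range) : b ∈ (algebraMap A B).range := by
  obtain ⟨a, ha⟩ := h
  obtain ⟨⟨x, t⟩, hx⟩ := IsLocalization.surj M b
  have h1 : algebraMap A B (a * (t : A) ^ N) = algebraMap A B (x ^ N) := by
    rw [map_mul, map_pow, map_pow, ha, ← mul_pow, hx]
  have h2 : (t : A) ^ N ∣ x ^ N := ⟨a, by rw [mul_comm]; exact (IsLocalization.injective B hM h1).symm⟩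
  obtain ⟨q, hq⟩ := (IsIntegrallyClosed.pow_dvd_pow_iff hN).1 h2
  refine ⟨q, ?_⟩
  refine (IsLocalization.map_units B t).mul_right_cancel ?_
  rw [hx, ← map_mul, hq, mul_comm]

theorem mem_fil_iff {A B : Type u} [CommRing A] [IsDomain A] [IsIntegrallyClosed A]
    [CommRing B] [Algebra A B] {M : Submonoid A} [IsLocalization M B] (hM : M ≤ nonZeroDivisors A)
    (c : B) (m : ℕ) (a : TruncatedWittVector p m B) :
    a ∈ WittFil.fil p m (A := A) (c ^ (p ^ (m - 1))) ↔
      ∀ j : Fin m, TruncatedWittVector.coeff j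
          (a * WittVector.truncate m (WittVector.teichmuller p c)) ∈ (algebraMap A B).range := by
  refine forall_congr' fun j => ?_
  have hj : (j : ℕ) + (m - 1 - j) = m - 1 := by have := j.2; omega
  have e : TruncatedWittVector.coeff j a ^ p ^ (m - 1 - (j : ℕ)) * c ^ p ^ (m - 1) =
      (TruncatedWittVector.coeff j (a * WittVector.truncate m (WittVector.teichmuller p c))) ^
        p ^ (m - 1 - (j : ℕ)) := by
    rw [mul_comm a, coeff_truncate_teichmuller_mul, mul_pow, ← pow_mul, ← pow_add, hj]
    ring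
  rw [e]
  exact ⟨fun h => mem_range_of_pow_mem (M := M) hM _ (pow_ne_zero _ hp.1.ne_zero) h, fun h => pow_mem h _⟩

theorem prod_dvd_of_prime {A : Type u} [CommRing A] [IsDomain A] {r : ℕ} (x : Fin r → A)
    (hx : ∀ i, Prime (x i)) (hxa : ∀ i j, Associated (x i) (x j) → i = j) {b : A}
    (h : ∀ i, x i ∣ b) : (∏ i, x i) ∣ b := by
  classical
  suffices ∀ s : Finset (Fin r), (∏ i ∈ s, x i) ∣ b from this _
  intro s
  induction s using Finset.induction_on with
  | empty => simp
  | insert i s hi ih =>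
    obtain ⟨c, hc⟩ := ih
    rw [Finset.prod_insert hi, hc, mul_comm (x i)]
    refine mul_dvd_mul_left _ ?_
    rcases (hx i).dvd_or_dvd (hc ▸ h i) with h' | h'
    · exfalso
      obtain ⟨j, hj, hd⟩ := ((hx i).dvd_finsetProd_iff _).1 h'
      exact hi (hxa i j ((hx i).associated_of_dvd (hx j) hd) ▸ hj)
    · exact h'

theorem coeff_mem_of_neg {A B : Type u} [CommRing A] [IsDomain A] [UniqueFactorizationMonoid A]
    [CommRing B] [Algebra A B] {r : ℕ} (x : Fin r → A) (hx : ∀ i, Prime (x i))
    (hxa : ∀ i j, Associated (x i) (x j) → i = j) [IsLocalization.Away (∏ i, x i) B]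
    (u : Fin r → Bˣ) (hu : ∀ i, (u i : B) = algebraMap A B (x i)) (m : ℕ) (n : Fin r → ℤ)
    (hn : ∀ i, n i < 0) (a : TruncatedWittVector p m B)
    (ha : a ∈ WittFil.fil p m (A := A) (WittFil.zmon u n)) (j : Fin m) :
    ∃ b : A, TruncatedWittVector.coeff j a = algebraMap A B ((∏ i, x i) * b) := by
  have hM : Submonoid.powers (∏ i, x i) ≤ nonZeroDivisors A :=
    powers_le_nonZeroDivisors_of_noZeroDivisors (Finset.prod_ne_zero_iff.2 fun i _ => (hx i).ne_zero)
  obtain ⟨c, hc⟩ := ha j
  have he : ∀ i, ((n i).natAbs : ℤ) = - n i := fun i => by have := hn i; omega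
  have h1 : TruncatedWittVector.coeff j a ^ p ^ (m - 1 - (j : ℕ)) =
      algebraMap A B (c * ∏ i, x i ^ (n i).natAbs) := by
    have hz : WittFil.zmon u n * algebraMap A B (∏ i, x i ^ (n i).natAbs) = 1 := by
      rw [map_prod, show (∏ i, algebraMap A B (x i ^ (n i).natAbs)) =
        ((∏ i, u i ^ (n i).natAbs : Bˣ) : B) by simp [hu], WittFil.zmon, ← Units.val_mul,
        ← Finset.prod_mul_distrib]
      rw [Finset.prod_eq_one (fun i _ => ?_), Units.val_one]
      rw [← zpow_natCast, ← zpow_add, he, add_neg_cancel, zpow_zero]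
    rw [map_mul, hc, mul_assoc, hz, mul_one]
  obtain ⟨b, hb⟩ := mem_range_of_pow_mem (M := Submonoid.powers (∏ i, x i)) hM _
    (pow_ne_zero _ hp.1.ne_zero) ⟨_, h1.symm⟩
  rw [← hb, ← map_pow] at h1
  have h2 := IsLocalization.injective B hM h1
  obtain ⟨d, hd⟩ := prod_dvd_of_prime x hx hxa (b := b) (fun i => (hx i).dvd_of_dvd_pow
    (n := p ^ (m - 1 - (j : ℕ))) (h2 ▸ dvd_mul_of_dvd_right ((dvd_pow_self (x i)
      (Int.natAbs_ne_zero.2 (hn i).ne)).trans
        (Finset.dvd_prod_of_mem (fun i => x i ^ (n i).natAbs) (Finset.mem_univ i))) _))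
  exact ⟨d, by rw [← hb, hd]⟩

theorem exists_succ_mem_fil {A B : Type u} [CommRing A] [CommRing B] [Algebra A B] {r : ℕ}
    (x : Fin r → A) (u : Fin r → Bˣ) (hu : ∀ i, (u i : B) = algebraMap A B (x i)) (n : Fin r → ℤ)
    (m : ℕ) (y : TruncatedWittVector p m B)
    (hy : y ∈ WittFil.fil p m (A := A) (WittFil.zmon u (fun i => n i / (p : ℤ)))) :
    ∃ z ∈ WittFil.fil p (m + 1) (A := A) (WittFil.zmon u n),
      TruncatedWittVector.truncate (Nat.le_succ m) z = y := by
  refine ⟨TruncatedWittVector.mk p fun j => if h : (j : ℕ) < m then TruncatedWittVector.coeff ⟨j, h⟩ y else 0,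
    fun j => ?_, ?_⟩
  · rw [TruncatedWittVector.coeff_mk]
    by_cases h : (j : ℕ) < m
    · rw [dif_pos h]
      obtain ⟨c, hc⟩ := hy ⟨j, h⟩
      refine ⟨c ^ p * ∏ i, x i ^ (n i % (p : ℤ)).toNat, ?_⟩
      have he : WittFil.zmon u n = WittFil.zmon u (fun i => n i / (p : ℤ)) ^ p *
          algebraMap A B (∏ i, x i ^ (n i % (p : ℤ)).toNat) := by
        rw [map_prod, show (∏ i, algebraMap A B (x i ^ (n i % (p : ℤ)).toNat)) =
          ((∏ i, u i ^ (n i % (p : ℤ)).toNat : Bˣ) : B) by simp [hu], WittFil.zmon, WittFil.zmon,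
          ← Units.val_pow_eq_pow_val, ← Finset.prod_pow, ← Units.val_mul, ← Finset.prod_mul_distrib]
        congr 1
        refine Finset.prod_congr rfl fun i _ => ?_
        rw [← zpow_natCast, ← zpow_mul, ← zpow_natCast _ (n i % (p : ℤ)).toNat, ← zpow_add,
          Int.toNat_of_nonneg (Int.emod_nonneg _ (by exact_mod_cast hp.1.ne_zero))]
        congr 1
        rw [mul_comm]
        exact (Int.mul_ediv_add_emod (n i) p).symm
      rw [map_mul, map_pow, hc, he, mul_pow, ← pow_mul, ← pow_succ,
        show m + 1 - 1 - (j : ℕ) = m - 1 - (j : ℕ) + 1 by omega]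
      ring
    · rw [dif_neg h, zero_pow (pow_ne_zero _ hp.1.ne_zero), zero_mul]
      exact zero_mem _
  · ext j
    rw [TruncatedWittVector.coeff_truncate, TruncatedWittVector.coeff_mk]
    simp [j.2]

theorem mem_range_of_mul_pow_mem {A B : Type u} [CommRing A] [IsDomain A]
    [CommRing B] [Algebra A B] {r : ℕ} (x : Fin r → A) (hx : ∀ i, Prime (x i))
    (hxa : ∀ i j, Associated (x i) (x j) → i = j) [IsLocalization.Away (∏ i, x i) B]
    (e : Fin r → ℕ) (he : ∀ i, e i < p) (z : B)
    (h : z ^ p * algebraMap A B (∏ i, x i ^ e i) ∈ (algebraMap A B).range) :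
    z ∈ (algebraMap A B).range := by
  classical
  have hM : Submonoid.powers (∏ i, x i) ≤ nonZeroDivisors A :=
    powers_le_nonZeroDivisors_of_noZeroDivisors (Finset.prod_ne_zero_iff.2 fun i _ => (hx i).ne_zero)
  obtain ⟨⟨a, ⟨_, K, rfl⟩⟩, ha⟩ := IsLocalization.surj (Submonoid.powers (∏ i, x i)) z
  have hinj := IsLocalization.injective B hM
  have key : ∀ t ∈ Submonoid.closure (Set.range x), ∀ z : B,
      z ^ p * algebraMap A B (∏ i, x i ^ e i) ∈ (algebraMap A B).range →
        z * algebraMap A B t ∈ (algebraMap A B).range → z ∈ (algebraMap A B).range := by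
    intro t ht
    induction ht using Submonoid.closure_induction with
    | mem q hq =>
      obtain ⟨i, rfl⟩ := hq
      rintro z ⟨c, hc⟩ ⟨a, ha⟩
      have h1 : a ^ p * (∏ j, x j ^ e j) = c * x i ^ p := hinj (by
        rw [map_mul, map_mul, map_pow, map_pow, ha, hc, mul_pow]; ring)
      rw [← Finset.mul_prod_erase _ _ (Finset.mem_univ i)] at h1
      have hlt := he i
      have h2 : x i ∣ a ^ p * ∏ j ∈ Finset.univ.erase i, x j ^ e j := by
        refine (dvd_pow_self (x i) (show p - e i ≠ 0 by omega)).trans ⟨c, ?_⟩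
        refine mul_left_cancel₀ (pow_ne_zero (e i) (hx i).ne_zero) ?_
        rw [← mul_assoc, ← mul_assoc, mul_comm _ (a ^ p), mul_assoc, h1, ← pow_add,
          Nat.add_sub_cancel' hlt.le, mul_comm]
      have h3 : x i ∣ a := by
        rcases (hx i).dvd_or_dvd h2 with h3 | h3
        · exact (hx i).dvd_of_dvd_pow h3
        · obtain ⟨j, hj, hd⟩ := ((hx i).dvd_finsetProd_iff _).1 h3
          exact absurd (hxa i j ((hx i).associated_of_dvd (hx j) ((hx i).dvd_of_dvd_pow hd))).symm
            (Finset.ne_of_mem_erase hj)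
      obtain ⟨q, rfl⟩ := h3
      refine ⟨q, ?_⟩
      have hu : IsUnit (algebraMap A B (x i)) := by
        refine isUnit_of_dvd_unit (map_dvd _ (Finset.dvd_prod_of_mem x (Finset.mem_univ i))) ?_
        exact IsLocalization.map_units B (⟨∏ i, x i, 1, pow_one _⟩ : Submonoid.powers (∏ i, x i))
      refine hu.mul_right_cancel ?_
      rw [← ha, map_mul, mul_comm]
    | one => intro z _ hz; simpa using hz
    | mul t₁ t₂ _ _ h₁ h₂ =>
      intro z hz hzt
      refine h₂ z hz (h₁ _ ?_ ?_)
      · rw [show (z * algebraMap A B t₂) ^ p * algebraMap A B (∏ i, x i ^ e i) =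
          z ^ p * algebraMap A B (∏ i, x i ^ e i) * algebraMap A B (t₂ ^ p) by rw [map_pow]; ring]
        exact mul_mem hz ⟨_, rfl⟩
      · rwa [map_mul, mul_comm (algebraMap A B t₁), ← mul_assoc] at hzt
  exact key _ (pow_mem (prod_mem fun i _ => Submonoid.subset_closure (Set.mem_range_self i)) K) z h ⟨a, ha.symm⟩

theorem truncate_image_fil {A B : Type u} [CommRing A] [IsDomain A] [CommRing B] [Algebra A B] {r : ℕ}
    (x : Fin r → A) (hx : ∀ i, Prime (x i)) (hxa : ∀ i j, Associated (x i) (x j) → i = j)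
    [IsLocalization.Away (∏ i, x i) B] (u : Fin r → Bˣ) (hu : ∀ i, (u i : B) = algebraMap A B (x i))
    (n : Fin r → ℤ) (m : ℕ) :
    (TruncatedWittVector.truncate (Nat.le_succ m)) '' WittFil.fil p (m + 1) (A := A) (WittFil.zmon u n) =
      WittFil.fil p m (A := A) (WittFil.zmon u (fun i => n i / (p : ℤ))) := by
  ext y
  constructor
  · rintro ⟨w, hw, rfl⟩ j
    obtain ⟨c, hc⟩ := hw ⟨j, Nat.lt_succ_of_lt j.2⟩
    refine mem_range_of_mul_pow_mem p x hx hxa (fun i => (n i % (p : ℤ)).toNat) (fun i => ?_) _ ⟨c, ?_⟩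
    · have := Int.emod_lt_of_pos (n i) (by exact_mod_cast hp.1.pos : (0 : ℤ) < p)
      have := Int.emod_nonneg (n i) (by exact_mod_cast hp.1.ne_zero : (p : ℤ) ≠ 0)
      omega
    · have he : WittFil.zmon u n = WittFil.zmon u (fun i => n i / (p : ℤ)) ^ p *
          algebraMap A B (∏ i, x i ^ (n i % (p : ℤ)).toNat) := by
        rw [map_prod, show (∏ i, algebraMap A B (x i ^ (n i % (p : ℤ)).toNat)) =
          ((∏ i, u i ^ (n i % (p : ℤ)).toNat : Bˣ) : B) by simp [hu], WittFil.zmon, WittFil.zmon,
          ← Units.val_pow_eq_pow_val, ← Finset.prod_pow, ← Units.val_mul, ← Finset.prod_mul_distrib]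
        congr 1
        refine Finset.prod_congr rfl fun i _ => ?_
        rw [← zpow_natCast, ← zpow_mul, ← zpow_natCast _ (n i % (p : ℤ)).toNat, ← zpow_add,
          Int.toNat_of_nonneg (Int.emod_nonneg _ (by exact_mod_cast hp.1.ne_zero))]
        congr 1
        rw [mul_comm]
        exact (Int.mul_ediv_add_emod (n i) p).symm
      rw [hc, he, TruncatedWittVector.coeff_truncate, mul_pow, ← pow_mul, ← pow_succ,
        show m + 1 - 1 - (j : ℕ) = m - 1 - (j : ℕ) + 1 by have := j.2; omega]
      have : (Fin.castLE (Nat.le_succ m) j) = (⟨j, Nat.lt_succ_of_lt j.2⟩ : Fin (m + 1)) := rfl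
      rw [this]
      ring
  · intro hy
    exact exists_succ_mem_fil p x u hu n m y hy

end Groth.Agent.WittFilLib
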