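import Mathlib
import Groth.Prelude
import Groth.Agent.WittFilLib.Basic

/-!
# The filtered pieces are closed under subtraction and multiplicative in the index
-/

set_option autoImplicit false

noncomputable section

namespace Groth.Agent.WittFilLib

variable (p : ℕ) [hp : Fact p.Prime]

universe u

/-- The first `m` coordinates lie in the subring. -/
def CoordsIn {L : Type u} [CommRing L] (S : Subring L) (m : ℕ) (Y : WittVector p L) : Prop :=
  ∀ j, j < m → Y.coeff j ∈ S

theorem CoordsIn.exists_lift {L : Type u} [CommRing L] {S : Subring L} {m : ℕ} {Y : WittVector p L}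
    (h : CoordsIn p S m Y) :
    ∃ y : WittVector p S, WittVector.truncate m (WittVector.map S.subtype y) = WittVector.truncate m Y := by
  classical
  refine ⟨WittVector.mk p fun j => if hj : j < m then ⟨Y.coeff j, h j hj⟩ else 0, ?_⟩
  ext j
  simp [WittVector.coeff_truncate, WittVector.map_coeff, j.2]

theorem coordsIn_of_truncate_eq {L : Type u} [CommRing L] {S : Subring L} {m : ℕ} {Y : WittVector p L}
    (y : WittVector p S) (h : WittVector.truncate m (WittVector.map S.subtype y) = WittVector.truncate m Y) :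
    CoordsIn p S m Y := by
  intro j hj
  have := congrArg (TruncatedWittVector.coeff (⟨j, hj⟩ : Fin m)) h
  simp [WittVector.coeff_truncate, WittVector.map_coeff] at this
  rw [← this]
  exact (y.coeff j).2

theorem CoordsIn.sub {L : Type u} [CommRing L] {S : Subring L} {m : ℕ} {Y Z : WittVector p L}
    (h : CoordsIn p S m Y) (h' : CoordsIn p S m Z) : CoordsIn p S m (Y - Z) := by
  obtain ⟨y, hy⟩ := h.exists_lift
  obtain ⟨z, hz⟩ := h'.exists_lift
  exact coordsIn_of_truncate_eq p (y - z) (by simp only [map_sub, hy, hz])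

theorem CoordsIn.mul {L : Type u} [CommRing L] {S : Subring L} {m : ℕ} {Y Z : WittVector p L}
    (h : CoordsIn p S m Y) (h' : CoordsIn p S m Z) : CoordsIn p S m (Y * Z) := by
  obtain ⟨y, hy⟩ := h.exists_lift
  obtain ⟨z, hz⟩ := h'.exists_lift
  exact coordsIn_of_truncate_eq p (y * z) (by simp only [map_mul, hy, hz])

/-- `a ∈ fil c` iff the coordinates of `[t] a` are integral, for `t` a root of `c` in `L`. -/
theorem fil_iff_coordsIn {A B L : Type u} [CommRing A] [CommRing B] [Algebra A B]
    [CommRing L] [Algebra A L] (g : B →ₐ[A] L) (hg : Function.Injective g)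
    (hA : ∀ b : B, IsIntegral A b → b ∈ (algebraMap A B).range)
    (c : B) (t : L) (m : ℕ) (ht : t ^ p ^ (m - 1) = g c) (y : WittVector p B) :
    WittVector.truncate m y ∈ WittFil.fil p m (A := A) c ↔
      CoordsIn p (integralClosure A L).toSubring m
        (WittVector.teichmuller p t * WittVector.map g.toRingHom y) := by
  have key : ∀ j, j < m →
      (t ^ p ^ j * g (y.coeff j)) ^ p ^ (m - 1 - j) = g (y.coeff j ^ p ^ (m - 1 - j) * c) := by
    intro j hj
    rw [mul_pow, ← pow_mul, ← pow_add, Nat.add_sub_cancel' (by omega), ht, map_mul, map_pow]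
    ring
  have hco : ∀ j, (WittVector.teichmuller p t * WittVector.map g.toRingHom y).coeff j =
      t ^ p ^ j * g (y.coeff j) := fun j => by
    rw [teichmuller_mul]; rfl
  constructor
  · intro h j hj
    obtain ⟨a, ha⟩ := h ⟨j, hj⟩
    rw [hco]
    show IsIntegral A _
    refine IsIntegral.of_pow (Nat.pos_of_ne_zero (pow_ne_zero _ hp.1.ne_zero) : 0 < p ^ (m - 1 - j)) ?_
    rw [key j hj]
    rw [WittVector.coeff_truncate] at ha
    rw [← ha, AlgHom.commutes]
    exact isIntegral_algebraMap
  · intro h j
    rw [WittVector.coeff_truncate]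
    refine hA _ ((isIntegral_algHom_iff g hg).1 ?_)
    rw [← key j j.2]
    have := h j j.2
    rw [hco] at this
    exact IsIntegral.pow this _

theorem isIntegral_mem_range {A B : Type u} [CommRing A] [IsDomain A] [IsIntegrallyClosed A]
    [CommRing B] [Algebra A B] (g : B →ₐ[A] FractionRing A) (hg : Function.Injective g)
    (b : B) (h : IsIntegral A b) : b ∈ (algebraMap A B).range := by
  obtain ⟨a, ha⟩ := IsIntegrallyClosed.isIntegral_iff.1 (h.map g)
  exact ⟨a, hg (by rw [AlgHom.commutes, ha])⟩

theorem exists_embedding {A B : Type u} [CommRing A] [IsDomain A] [CommRing B] [Algebra A B]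
    {M : Submonoid A} [IsLocalization M B] (hM : M ≤ nonZeroDivisors A) :
    ∃ g : B →ₐ[A] FractionRing A, Function.Injective g := by
  have hu : ∀ y : M, IsUnit (algebraMap A (FractionRing A) y) := fun y =>
    IsLocalization.map_units (FractionRing A) (⟨y.1, hM y.2⟩ : nonZeroDivisors A)
  refine ⟨{ IsLocalization.lift hu with commutes' := fun a => IsLocalization.lift_eq hu a }, ?_⟩
  show Function.Injective (IsLocalization.lift (S := B) hu)
  refine (IsLocalization.lift_injective_iff hu).2 fun x y => ?_
  rw [(IsLocalization.injective B hM).eq_iff, (IsFractionRing.injective A (FractionRing A)).eq_iff]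

section

variable {A B : Type u} [CommRing A] [IsDomain A] [IsIntegrallyClosed A] [CommRing B] [Algebra A B]
    {M : Submonoid A} [IsLocalization M B] (hM : M ≤ nonZeroDivisors A)

include hM

theorem fil_sub_mem (c : B) (m : ℕ) (a b : TruncatedWittVector p m B)
    (ha : a ∈ WittFil.fil p m (A := A) c) (hb : b ∈ WittFil.fil p m (A := A) c) :
    a - b ∈ WittFil.fil p m (A := A) c := by
  obtain ⟨g₀, hg₀⟩ := exists_embedding (B := B) hM
  let i := IsScalarTower.toAlgHom A (FractionRing A) (AlgebraicClosure (FractionRing A))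
  have hi : Function.Injective i := (algebraMap (FractionRing A) (AlgebraicClosure (FractionRing A))).injective
  obtain ⟨y, rfl⟩ := WittVector.truncate_surjective p m B a
  obtain ⟨z, rfl⟩ := WittVector.truncate_surjective p m B b
  obtain ⟨t, ht⟩ := IsAlgClosed.exists_pow_nat_eq (i.comp g₀ c)
    (Nat.pos_of_ne_zero (pow_ne_zero (m - 1) hp.1.ne_zero))
  have e := fun w => fil_iff_coordsIn p (i.comp g₀) (hi.comp hg₀) (isIntegral_mem_range g₀ hg₀) c t m ht w
  rw [← map_sub, e, map_sub, mul_sub]
  exact CoordsIn.sub p ((e y).1 ha) ((e z).1 hb)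

theorem fil_mul_mem (c c' : B) (m : ℕ) (a b : TruncatedWittVector p m B)
    (ha : a ∈ WittFil.fil p m (A := A) c) (hb : b ∈ WittFil.fil p m (A := A) c') :
    a * b ∈ WittFil.fil p m (A := A) (c * c') := by
  obtain ⟨g₀, hg₀⟩ := exists_embedding (B := B) hM
  let i := IsScalarTower.toAlgHom A (FractionRing A) (AlgebraicClosure (FractionRing A))
  have hi : Function.Injective i := (algebraMap (FractionRing A) (AlgebraicClosure (FractionRing A))).injective
  obtain ⟨y, rfl⟩ := WittVector.truncate_surjective p m B a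
  obtain ⟨z, rfl⟩ := WittVector.truncate_surjective p m B b
  obtain ⟨t, ht⟩ := IsAlgClosed.exists_pow_nat_eq (i.comp g₀ c)
    (Nat.pos_of_ne_zero (pow_ne_zero (m - 1) hp.1.ne_zero))
  obtain ⟨t', ht'⟩ := IsAlgClosed.exists_pow_nat_eq (i.comp g₀ c')
    (Nat.pos_of_ne_zero (pow_ne_zero (m - 1) hp.1.ne_zero))
  have hA := isIntegral_mem_range g₀ hg₀
  have e₁ := (fil_iff_coordsIn p (i.comp g₀) (hi.comp hg₀) hA c t m ht y).1 ha
  have e₂ := (fil_iff_coordsIn p (i.comp g₀) (hi.comp hg₀) hA c' t' m ht' z).1 hb
  rw [← map_mul, fil_iff_coordsIn p (i.comp g₀) (hi.comp hg₀) hA (c * c') (t * t') m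
    (by rw [mul_pow, ht, ht', map_mul]), map_mul, map_mul, mul_mul_mul_comm]
  exact CoordsIn.mul p e₁ e₂

end

end Groth.Agent.WittFilLib
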