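import Mathlib
import Groth.Prelude
import Groth.Agent.WittFilLib.Mul

/-!
# Differences of coordinatewise congruent elements of a filtered piece
-/

set_option autoImplicit false

noncomputable section

namespace Groth.Agent.WittFilLib

variable (p : ℕ) [hp : Fact p.Prime]

universe u

theorem verschiebung_iterate_coeff_lt {R : Type u} [CommRing R] (x : WittVector p R) :
    ∀ (s j : ℕ), j < s → (WittVector.verschiebung^[s] x).coeff j = 0 := by
  intro s
  induction s with
  | zero => intro j hj; omega
  | succ s ih =>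
    intro j hj
    rw [Function.iterate_succ_apply']
    cases j with
    | zero => exact WittVector.verschiebung_coeff_zero _
    | succ j => rw [WittVector.verschiebung_coeff_succ]; exact ih j (by omega)

theorem mem_range_of_isIntegral_away {A B : Type u} [CommRing A] [IsDomain A] [CommRing B] [Algebra A B]
    (π : A) (hπ : Prime π) [IsLocalization.Away π B] (b : B) (hb : IsIntegral A b) :
    b ∈ (algebraMap A B).range := by
  have hinj : Function.Injective (algebraMap A B) := IsLocalization.injective B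
    (powers_le_nonZeroDivisors_of_noZeroDivisors hπ.ne_zero)
  suffices ∀ (d : ℕ) (b : B), IsIntegral A b → ∀ a, b * algebraMap A B π ^ d = algebraMap A B a →
      b ∈ (algebraMap A B).range by
    obtain ⟨⟨a, ⟨_, d, rfl⟩⟩, h⟩ := IsLocalization.surj (Submonoid.powers π) b
    exact this d b hb a (by rw [← map_pow]; exact h)
  intro d
  induction d with
  | zero => exact fun b _ a h => ⟨a, by rw [← h, pow_zero, mul_one]⟩
  | succ d ih =>
    intro b hb a h
    have hb' : IsIntegral A (b * algebraMap A B π ^ d) := hb.mul (isIntegral_algebraMap.pow d)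
    obtain ⟨f, hf, hfb⟩ := hb'
    have h2 : Polynomial.eval₂ (algebraMap A B) (algebraMap A B π * (b * algebraMap A B π ^ d))
        (f.scaleRoots π) = 0 := Polynomial.scaleRoots_eval₂_eq_zero _ hfb
    rw [show algebraMap A B π * (b * algebraMap A B π ^ d) = algebraMap A B a by rw [← h, pow_succ]; ring,
      Polynomial.eval₂_at_apply, map_eq_zero_iff _ hinj] at h2
    have h3 : π ∣ (f.scaleRoots π).eval a - a ^ f.natDegree := by
      rw [Polynomial.eval_eq_sum_range, Polynomial.natDegree_scaleRoots, Finset.sum_range_succ,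
        Polynomial.coeff_scaleRoots_natDegree, hf.leadingCoeff, one_mul, add_sub_cancel_right]
      refine Finset.dvd_sum fun i hi => dvd_mul_of_dvd_left ?_ _
      rw [Polynomial.coeff_scaleRoots]
      exact dvd_mul_of_dvd_right (dvd_pow_self _ (by have := Finset.mem_range.1 hi; omega)) _
    rw [h2, zero_sub, dvd_neg] at h3
    obtain ⟨a', rfl⟩ := hπ.dvd_of_dvd_pow h3
    refine ih b hb a' ?_
    have hu : IsUnit (algebraMap A B π) :=
      IsLocalization.map_units B (⟨π, 1, pow_one _⟩ : Submonoid.powers π)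
    refine hu.mul_left_cancel ?_
    rw [← map_mul, ← h, pow_succ]; ring

theorem sub_mem_fil_of_congr {A B : Type u} [CommRing A] [IsDomain A] [CharP A p]
    [CommRing B] [Algebra A B] {M : Submonoid A} [IsLocalization M B] (hM : M ≤ nonZeroDivisors A)
    (hA : ∀ b : B, IsIntegral A b → b ∈ (algebraMap A B).range)
    (π : A) (hπ : Prime π) (hπu : IsUnit (algebraMap A B π)) (e e' : B) (he : e' * algebraMap A B π = e) (m : ℕ)
    (a b : TruncatedWittVector p m B) (ha : a ∈ WittFil.fil p m (A := A) e)
    (hb : b ∈ WittFil.fil p m (A := A) e)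
    (hab : ∀ j : Fin m, ∃ x y : A,
      algebraMap A B x = TruncatedWittVector.coeff j a ^ p ^ (m - 1 - (j : ℕ)) * e ∧
      algebraMap A B y = TruncatedWittVector.coeff j b ^ p ^ (m - 1 - (j : ℕ)) * e ∧ π ∣ x - y) :
    a - b ∈ WittFil.fil p m (A := A) e' := by
  obtain ⟨g₀, hg₀⟩ := exists_embedding (B := B) hM
  let L := AlgebraicClosure (FractionRing A)
  let i := IsScalarTower.toAlgHom A (FractionRing A) L
  have hi : Function.Injective i := (algebraMap (FractionRing A) L).injective
  let g := i.comp g₀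
  have hg : Function.Injective g := hi.comp hg₀
  have hAL : Function.Injective (algebraMap A L) := by
    rw [IsScalarTower.algebraMap_eq A (FractionRing A) L, RingHom.coe_comp]
    exact hi.comp (IsFractionRing.injective A (FractionRing A))
  haveI : CharP L p := charP_of_injective_algebraMap hAL p
  obtain ⟨y, rfl⟩ := WittVector.truncate_surjective p m B a
  obtain ⟨z, rfl⟩ := WittVector.truncate_surjective p m B b
  obtain ⟨t, ht⟩ := IsAlgClosed.exists_pow_nat_eq (g e) (Nat.pos_of_ne_zero (pow_ne_zero (m - 1) hp.1.ne_zero))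
  let co (w : WittVector p B) : WittVector p L := WittVector.teichmuller p t * WittVector.map g.toRingHom w
  have hco : ∀ (w : WittVector p B) (j : ℕ), (co w).coeff j = t ^ p ^ j * g (w.coeff j) := fun w j => by
    simp only [co]; rw [teichmuller_mul]; rfl
  have key : ∀ (w : WittVector p B) (j : ℕ), j < m →
      (co w).coeff j ^ p ^ (m - 1 - j) = g (w.coeff j ^ p ^ (m - 1 - j) * e) := by
    intro w j hj
    rw [hco, mul_pow, ← pow_mul, ← pow_add, Nat.add_sub_cancel' (by omega), ht, map_mul, map_pow]
    ring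
  have mem := fun w => fil_iff_coordsIn p g hg hA e t m ht w
  let S := (integralClosure A L).toSubring
  obtain ⟨y', hy'⟩ := CoordsIn.exists_lift p ((mem y).1 ha)
  obtain ⟨z', hz'⟩ := CoordsIn.exists_lift p ((mem z).1 hb)
  let P : S := ⟨algebraMap A L π, isIntegral_algebraMap⟩
  let I : Ideal S := (Ideal.span {P}).radical
  have hcoeff : ∀ (w : WittVector p B) (w' : WittVector p S),
      WittVector.truncate m (WittVector.map S.subtype w') = WittVector.truncate m (co w) →
        ∀ j, j < m → ((w'.coeff j : S) : L) = (co w).coeff j := by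
    intro w w' hw j hj
    have := congrArg (TruncatedWittVector.coeff (⟨j, hj⟩ : Fin m)) hw
    simpa [WittVector.coeff_truncate, WittVector.map_coeff] using this
  have heq : WittVector.truncate m (WittVector.map (Ideal.Quotient.mk I) y') =
      WittVector.truncate m (WittVector.map (Ideal.Quotient.mk I) z') := by
    ext j
    rw [WittVector.coeff_truncate, WittVector.coeff_truncate, WittVector.map_coeff, WittVector.map_coeff,
      Ideal.Quotient.eq]
    obtain ⟨x₁, y₁, hx₁, hy₁, q, hq⟩ := hab j
    rw [WittVector.coeff_truncate] at hx₁ hy₁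
    refine ⟨p ^ (m - 1 - (j : ℕ)), Ideal.mem_span_singleton'.2 ⟨⟨algebraMap A L q, isIntegral_algebraMap⟩, ?_⟩⟩
    apply Subtype.ext
    show algebraMap A L q * algebraMap A L π = ((y'.coeff j : S) - (z'.coeff j : S) : L) ^ p ^ (m - 1 - (j : ℕ))
    rw [sub_pow_char_pow, hcoeff y y' hy' j j.2, hcoeff z z' hz' j j.2, key y j j.2, key z j j.2, ← hx₁, ← hy₁,
      AlgHom.commutes, AlgHom.commutes, ← map_sub, ← map_mul, hq, mul_comm]
  have hw : WittVector.truncate m (WittVector.map S.subtype (y' - z')) = WittVector.truncate m (co (y - z)) := by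
    rw [map_sub, map_sub, hy', hz', ← map_sub]
    simp only [co, map_sub, mul_sub]
  intro j
  obtain ⟨x, hx⟩ := (mem (y - z)).2 (coordsIn_of_truncate_eq p (y' - z') hw) j
  rw [WittVector.coeff_truncate] at hx
  have hI : (y' - z').coeff (j : ℕ) ∈ I := by
    rw [← Ideal.Quotient.eq_zero_iff_mem, ← WittVector.map_coeff, ← WittVector.coeff_truncate, map_sub, map_sub,
      heq, sub_self, TruncatedWittVector.coeff_zero]
  obtain ⟨k, hk⟩ := hI
  obtain ⟨s, hs⟩ := Ideal.mem_span_singleton'.1 hk
  obtain ⟨N, hN⟩ : ∃ N, p ^ (m - 1 - (j : ℕ)) = N + 1 :=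
    ⟨p ^ (m - 1 - (j : ℕ)) - 1, (Nat.succ_pred (pow_ne_zero _ hp.1.ne_zero)).symm⟩
  have hxk : algebraMap A L (x ^ k) = ((s : L) * algebraMap A L π) ^ (N + 1) := by
    rw [← show ((y' - z').coeff (j : ℕ) ^ k : S).1 = (s : L) * algebraMap A L π from congrArg Subtype.val hs.symm,
      SubmonoidClass.coe_pow, hcoeff _ _ hw j j.2, ← pow_mul, mul_comm k, pow_mul, ← hN, key _ j j.2, ← hx,
      AlgHom.commutes, map_pow]
  obtain ⟨uπ, huπ⟩ := hπu
  obtain ⟨r, hr⟩ := hA (algebraMap A B (x ^ k) * ((uπ⁻¹ : Bˣ) : B) ^ (N + 1)) ((isIntegral_algHom_iff g hg).1 (by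
    have h1 : algebraMap A L π * g ((uπ⁻¹ : Bˣ) : B) = 1 := by
      rw [← g.commutes π, ← huπ, ← map_mul, Units.mul_inv, map_one]
    rw [map_mul, map_pow g, AlgHom.commutes, hxk, ← mul_pow, mul_assoc, h1, mul_one]
    exact IsIntegral.pow s.2 _))
  have hdvd : π ∣ x ^ k := ⟨π ^ N * r, IsLocalization.injective B hM (by
    rw [map_mul (algebraMap A B) π, map_mul, map_pow (algebraMap A B) π, hr, ← huπ]
    calc algebraMap A B (x ^ k)
        = ((uπ : B) * ((uπ⁻¹ : Bˣ) : B)) ^ (N + 1) * algebraMap A B (x ^ k) := by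
          rw [Units.mul_inv, one_pow, one_mul]
      _ = _ := by ring)⟩
  obtain ⟨x', rfl⟩ := hπ.dvd_of_dvd_pow hdvd
  refine ⟨x', hg ?_⟩
  refine mul_right_cancel₀ (b := g (algebraMap A B π)) (by
    rw [AlgHom.commutes]; exact (map_ne_zero_iff _ hAL).2 hπ.ne_zero) ?_
  rw [← map_mul g, ← map_mul g]
  congr 1
  rw [mul_assoc, he, ← map_mul, mul_comm x', hx, ← map_sub, WittVector.coeff_truncate]

end Groth.Agent.WittFilLib
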